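import Mathlib
import Cfsg.Agent.S0023
import Cfsg.Agent.S0024
import Cfsg.Agent.S0010
import Cfsg.Agent.S0205
import Cfsg.Agent.Lib.Cores
import Cfsg.Agent.Lib.SolvableMinNormal
/-!
Half-transitive groups of automorphisms: if all non-trivial elements of a normal subgroup `N`
have centralizers of the same order `d ≠ 1` in a group `H` acting faithfully on `N`, with `N ⊓ H = ⊥`,
then `H` acts irreducibly on `N` and `N` is elementary abelian.
-/

set_option autoImplicit false

namespace Cfsg.Agent.H347.HalfTrans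

/-- If all stabilizers have the same order `d`, the order of the group divides `d` times the
number of points. -/
theorem card_dvd_of_stabilizer {K X : Type*} [Group K] [Finite K] [Finite X] [MulAction K X] (d : ℕ)
    (h : ∀ x : X, Nat.card (MulAction.stabilizer K x) = d) :
    Nat.card K ∣ Nat.card X * d := by
  classical
  have := Fintype.ofFinite X
  have e := MulAction.selfEquivSigmaOrbits K X
  have h1 : ∀ ω : MulAction.orbitRel.Quotient K X,
      Nat.card (MulAction.orbit K ω.out) * d = Nat.card K := by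
    intro ω
    have h2 := Nat.card_congr (MulAction.orbitProdStabilizerEquivGroup K (ω.out : X))
    rw [Nat.card_prod, h] at h2
    exact h2
  rw [Nat.card_congr e, Nat.card_sigma, Finset.sum_mul]
  exact Finset.dvd_sum fun ω _ => by rw [h1]

/-- Conjugation action of a subgroup on an invariant set. -/
@[reducible] def conjActOn {G : Type*} [Group G] (K : Subgroup G) (S : Set G)
    (hS : ∀ k ∈ K, ∀ s ∈ S, k * s * k⁻¹ ∈ S) : MulAction K S where
  smul k s := ⟨(k : G) * s * (k : G)⁻¹, hS k k.2 s s.2⟩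
  one_smul s := Subtype.ext (by change (1 : G) * s * (1 : G)⁻¹ = s; group)
  mul_smul a b s := Subtype.ext (by
    change ((a : G) * b) * s * ((a : G) * b)⁻¹ = a * (b * s * (b : G)⁻¹) * (a : G)⁻¹
    group)

theorem dvd_of_centralizer {G : Type*} [Group G] [Finite G] (K : Subgroup G) (S : Set G)
    (hS : ∀ k ∈ K, ∀ s ∈ S, k * s * k⁻¹ ∈ S) (d : ℕ)
    (h : ∀ s ∈ S, Nat.card ↥(K ⊓ Subgroup.centralizer {s}) = d) :
    Nat.card K ∣ Nat.card S * d := by
  let _ := conjActOn K S hS
  refine card_dvd_of_stabilizer (K := K) (X := S) d fun x => ?_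
  rw [← h x x.2]
  refine Nat.card_congr ⟨fun k => ⟨k.1, k.1.2, ?_⟩, fun k => ⟨⟨k.1, k.2.1⟩, ?_⟩, fun _ => rfl, fun _ => rfl⟩
  · have h1 : ((k.1 : G) * x * (k.1 : G)⁻¹) = x := congrArg Subtype.val (MulAction.mem_stabilizer_iff.1 k.2)
    change (k.1 : G) ∈ Subgroup.centralizer {(x : G)}
    rw [Subgroup.mem_centralizer_iff]
    intro y hy
    rw [Set.mem_singleton_iff.1 hy]
    exact (mul_inv_eq_iff_eq_mul.1 h1).symm
  · rw [MulAction.mem_stabilizer_iff]
    apply Subtype.ext
    change (k.1 : G) * x * (k.1 : G)⁻¹ = x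
    have h1 := Subgroup.mem_centralizer_iff.1 k.2.2 x rfl
    rw [← h1, mul_inv_cancel_right]

section Main

variable {G : Type*} [Group G] [Finite G] (N H : Subgroup G) (d : ℕ)

/-- Wielandt's argument: irreducibility. -/
theorem irreducible (hfaith : ∀ h ∈ H, (∀ x ∈ N, h * x = x * h) → h = 1)
    (hd : ∀ x ∈ N, x ≠ 1 → Nat.card ↥(H ⊓ Subgroup.centralizer {x}) = d) (hd1 : d ≠ 1)
    (U : Subgroup G) (hU : U ≤ N) (hinv : ∀ h ∈ H, ∀ u ∈ U, h * u * h⁻¹ ∈ U) : U = ⊥ ∨ U = N := by
  classical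
  by_contra hcon
  push Not at hcon
  obtain ⟨hU1, hU2⟩ := hcon
  -- key claim
  have key : ∀ x ∈ N, x ∉ U → ∀ u ∈ U, H ⊓ Subgroup.centralizer {x} ≤ Subgroup.centralizer {u} := by
    intro x hx hxU
    let K : Subgroup G :=
      { carrier := {k | k ∈ H ∧ x⁻¹ * (k * x * k⁻¹) ∈ U}
        one_mem' := ⟨H.one_mem, by simp⟩
        mul_mem' := by
          rintro a b ⟨ha, ha'⟩ ⟨hb, hb'⟩
          refine ⟨H.mul_mem ha hb, ?_⟩
          have e : x⁻¹ * (a * b * x * (a * b)⁻¹) =
              (x⁻¹ * (a * x * a⁻¹)) * (a * (x⁻¹ * (b * x * b⁻¹)) * a⁻¹) := by group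
          rw [e]
          exact U.mul_mem ha' (hinv a ha _ hb')
        inv_mem' := by
          rintro a ⟨ha, ha'⟩
          refine ⟨H.inv_mem ha, ?_⟩
          have e : x⁻¹ * (a⁻¹ * x * a⁻¹⁻¹) = (a⁻¹ * (x⁻¹ * (a * x * a⁻¹)) * a⁻¹⁻¹)⁻¹ := by group
          rw [e]
          exact U.inv_mem (hinv a⁻¹ (H.inv_mem ha) _ ha') }
    have hKH : K ≤ H := fun k hk => hk.1
    have hmemK : ∀ k, k ∈ K ↔ k ∈ H ∧ x⁻¹ * (k * x * k⁻¹) ∈ U := fun k => Iff.rfl
    -- the coset
    let S : Set G := {s | x⁻¹ * s ∈ U}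
    have hSN : ∀ s ∈ S, s ∈ N ∧ s ≠ 1 := by
      intro s hs
      have hs' : x⁻¹ * s ∈ U := hs
      refine ⟨?_, ?_⟩
      · have := N.mul_mem hx (hU hs')
        rwa [mul_inv_cancel_left] at this
      · rintro rfl
        apply hxU
        rw [mul_one] at hs'
        exact U.inv_mem_iff.1 hs'
    have hCK : ∀ s ∈ S, H ⊓ Subgroup.centralizer {s} ≤ K := by
      intro s hs k hk
      have hs' : x⁻¹ * s ∈ U := hs
      refine ⟨hk.1, ?_⟩
      have h1 : s * k = k * s := Subgroup.mem_centralizer_iff.1 hk.2 s rfl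
      have h2 : k * s * k⁻¹ = s := by rw [← h1]; group
      have e : x⁻¹ * (k * x * k⁻¹) = (x⁻¹ * (k * s * k⁻¹)) * (k * (x⁻¹ * s)⁻¹ * k⁻¹) := by group
      rw [e, h2]
      exact U.mul_mem hs' (hinv k hk.1 _ (U.inv_mem hs'))
    have hinf : ∀ s ∈ S, K ⊓ Subgroup.centralizer {s} = H ⊓ Subgroup.centralizer {s} := by
      intro s hs
      exact le_antisymm (inf_le_inf_right _ hKH) (le_inf (hCK s hs) inf_le_right)
    have hSinv : ∀ k ∈ K, ∀ s ∈ S, k * s * k⁻¹ ∈ S := by
      intro k hk s hs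
      have hs' : x⁻¹ * s ∈ U := hs
      change x⁻¹ * (k * s * k⁻¹) ∈ U
      have e : x⁻¹ * (k * s * k⁻¹) = (x⁻¹ * (k * x * k⁻¹)) * (k * (x⁻¹ * s) * k⁻¹) := by group
      rw [e]
      exact U.mul_mem hk.2 (hinv k hk.1 _ hs')
    have h1 : Nat.card K ∣ Nat.card S * d :=
      dvd_of_centralizer K S hSinv d fun s hs => by
        rw [hinf s hs]; exact hd s (hSN s hs).1 (hSN s hs).2
    have hcardS : Nat.card S = Nat.card U := by
      refine Nat.card_congr ⟨fun s => ⟨x⁻¹ * s.1, s.2⟩, fun u => ⟨x * u.1, ?_⟩, fun s => ?_, fun u => ?_⟩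
      · change x⁻¹ * (x * u.1) ∈ U
        rw [inv_mul_cancel_left]; exact u.2
      · exact Subtype.ext (by simp)
      · exact Subtype.ext (by simp)
    have h2 : Nat.card H ∣ Nat.card ({u | u ∈ U ∧ u ≠ 1} : Set G) * d := by
      refine dvd_of_centralizer H _ ?_ d ?_
      · rintro k hk s ⟨hs, hs1⟩
        refine ⟨hinv k hk s hs, fun h => hs1 ?_⟩
        have : k * s * k⁻¹ = k * 1 * k⁻¹ := by rw [h]; group
        simpa using this
      · rintro s ⟨hs, hs1⟩
        exact hd s (hU hs) hs1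
    have hcardU : Nat.card ({u | u ∈ U ∧ u ≠ 1} : Set G) + 1 = Nat.card U := by
      have e : ({u | u ∈ U ∧ u ≠ 1} : Set G) = (U : Set G) \ {1} := by
        ext u; simp
      rw [e, Nat.card_coe_set_eq, Set.ncard_sdiff_singleton_add_one U.one_mem (Set.toFinite _),
        ← Nat.card_coe_set_eq]
      rfl
    have hxS : x ∈ S := by change x⁻¹ * x ∈ U; simp
    have hdK : Nat.card ↥(K ⊓ Subgroup.centralizer {x}) = d := by
      rw [hinf x hxS]; exact hd x hx (hSN x hxS).2
    have hd0 : 0 < d := by rw [← hdK]; exact Nat.card_pos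
    obtain ⟨k, hk⟩ : d ∣ Nat.card K := by
      rw [← hdK]
      exact Subgroup.card_dvd_of_le inf_le_left
    obtain ⟨e, he⟩ : Nat.card K ∣ Nat.card H := Subgroup.card_dvd_of_le hKH
    rw [hcardS] at h1
    have h3 : k ∣ Nat.card U := by
      rw [hk, mul_comm d k] at h1
      exact Nat.dvd_of_mul_dvd_mul_right hd0 h1
    have h4 : k ∣ Nat.card ({u | u ∈ U ∧ u ≠ 1} : Set G) := by
      have : k * d ∣ Nat.card ({u | u ∈ U ∧ u ≠ 1} : Set G) * d := by
        refine dvd_trans ?_ h2
        rw [he, hk, mul_comm d k]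
        exact dvd_mul_right _ _
      exact Nat.dvd_of_mul_dvd_mul_right hd0 this
    have h5 : k ∣ 1 := by
      rw [← hcardU] at h3
      exact (Nat.dvd_add_right h4).1 h3
    have hk1 : k = 1 := Nat.dvd_one.1 h5
    rw [hk1, mul_one] at hk
    have hKeq : ∀ s ∈ S, K = H ⊓ Subgroup.centralizer {s} := by
      intro s hs
      refine (Subgroup.eq_of_le_of_card_ge (hCK s hs) ?_).symm
      rw [hk, hd s (hSN s hs).1 (hSN s hs).2]
    intro u hu c hc
    have hcK : c ∈ K := hCK x hxS hc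
    have hxu : x * u ∈ S := by change x⁻¹ * (x * u) ∈ U; rw [inv_mul_cancel_left]; exact hu
    have hc1 : (x * u) * c = c * (x * u) := by
      have := hKeq (x * u) hxu ▸ hcK
      exact Subgroup.mem_centralizer_iff.1 this.2 _ rfl
    have hc2 : x * c = c * x := Subgroup.mem_centralizer_iff.1 hc.2 x rfl
    rw [Subgroup.mem_centralizer_iff]
    intro y hy
    rw [Set.mem_singleton_iff.1 hy]
    have : x * (u * c) = x * (c * u) := by
      rw [← mul_assoc, hc1, ← mul_assoc, ← hc2, mul_assoc]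
    exact mul_left_cancel this
  obtain ⟨x, hx, hxU⟩ : ∃ x ∈ N, x ∉ U := by
    by_contra hno
    push Not at hno
    exact hU2 (le_antisymm hU hno)
  obtain ⟨u, hu, hu1⟩ : ∃ u ∈ U, u ≠ 1 := by
    by_contra hno
    push Not at hno
    exact hU1 ((Subgroup.eq_bot_iff_forall _).2 hno)
  have hx1 : x ≠ 1 := fun h => hxU (h ▸ U.one_mem)
  have heq : ∀ y ∈ N, y ∉ U → H ⊓ Subgroup.centralizer {y} = H ⊓ Subgroup.centralizer {u} := by
    intro y hy hyU
    refine Subgroup.eq_of_le_of_card_ge (le_inf inf_le_left (key y hy hyU u hu)) ?_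
    rw [hd u (hU hu) hu1, hd y hy fun h => hyU (h ▸ U.one_mem)]
  have hbot : H ⊓ Subgroup.centralizer {u} = ⊥ := by
    rw [Subgroup.eq_bot_iff_forall]
    intro h hh
    refine hfaith h hh.1 fun y hy => ?_
    by_cases hyU : y ∈ U
    · have h1 : h ∈ Subgroup.centralizer {y} := key x hx hxU y hyU (heq x hx hxU ▸ hh)
      exact (Subgroup.mem_centralizer_iff.1 h1 y rfl).symm
    · have h1 : h ∈ H ⊓ Subgroup.centralizer {y} := (heq y hy hyU) ▸ hh
      exact (Subgroup.mem_centralizer_iff.1 h1.2 y rfl).symm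
  have := hd u (hU hu) hu1
  rw [hbot, Subgroup.card_bot] at this
  exact hd1 this.symm

omit [Finite G] in
theorem conj_inv_of_characteristic [hN : N.Normal] (V : Subgroup N) (hV : V.Characteristic) :
    ∀ h : G, ∀ u ∈ V.map N.subtype, h * u * h⁻¹ ∈ V.map N.subtype := by
  rintro h _ ⟨u, hu, rfl⟩
  have h1 := Subgroup.characteristic_iff_map_le.1 hV (MulAut.conjNormal h)
  exact ⟨MulAut.conjNormal h u, h1 (Subgroup.mem_map_of_mem _ hu), by simp⟩

/-- If `H` acts irreducibly on the solvable group `N`, then `N` is elementary abelian. -/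
theorem elementary_of_solvable [hN : N.Normal] (hN1 : N ≠ ⊥) (hs : Group.IsSolvable N)
    (hirr : ∀ U : Subgroup G, U ≤ N → (∀ h ∈ H, ∀ u ∈ U, h * u * h⁻¹ ∈ U) → U = ⊥ ∨ U = N) :
    ∃ p : ℕ, p.Prime ∧ IsMulCommutative N ∧ ∀ x ∈ N, x ^ p = 1 := by
  have : Nontrivial N := (Subgroup.nontrivial_iff_ne_bot N).2 hN1
  obtain ⟨A, hA, hAc, hA1⟩ :=
    Cfsg.Agent.Lib.SolvableMinNormal.exists_characteristic_abelian (G := N)
  have hAN : A.map N.subtype = N := by
    refine (hirr _ (Subgroup.map_subtype_le A) fun h _ u hu =>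
      conj_inv_of_characteristic N A hA h u hu).resolve_left fun h => hA1 ?_
    exact (Subgroup.map_eq_bot_iff_of_injective _ N.subtype_injective).1 h
  have hcomm : ∀ x ∈ N, ∀ y ∈ N, x * y = y * x := by
    intro x hx y hy
    rw [← hAN] at hx hy
    obtain ⟨a, ha, rfl⟩ := hx
    obtain ⟨b, hb, rfl⟩ := hy
    have := congrArg (fun z : A => ((z : N) : G)) (mul_comm' (⟨a, ha⟩ : A) ⟨b, hb⟩)
    simpa using this
  have hcard : Nat.card N ≠ 1 := fun h => hN1 (Subgroup.card_eq_one.mp h)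
  obtain ⟨p, hp, hpd⟩ := Nat.exists_prime_and_dvd hcard
  have : Fact p.Prime := ⟨hp⟩
  obtain ⟨x, hx⟩ := exists_prime_orderOf_dvd_card' p hpd
  let U : Subgroup G :=
    { carrier := {u | u ∈ N ∧ u ^ p = 1}
      one_mem' := ⟨N.one_mem, one_pow _⟩
      mul_mem' := by
        rintro a b ⟨ha, ha'⟩ ⟨hb, hb'⟩
        refine ⟨N.mul_mem ha hb, ?_⟩
        rw [(show Commute a b from hcomm a ha b hb).mul_pow, ha', hb', one_mul]
      inv_mem' := by
        rintro a ⟨ha, ha'⟩
        exact ⟨N.inv_mem ha, by rw [inv_pow, ha', inv_one]⟩ }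
  have hU : U = N := by
    refine (hirr U (fun u hu => hu.1) ?_).resolve_left ?_
    · rintro h _ u ⟨hu, hu'⟩
      refine ⟨hN.conj_mem u hu h, ?_⟩
      rw [conj_pow, hu', mul_one, mul_inv_cancel]
    · intro h
      have h1 : (x : G) ∈ U := ⟨x.2, by
        have := pow_orderOf_eq_one x
        rw [hx] at this
        exact_mod_cast congrArg Subtype.val this⟩
      rw [h, Subgroup.mem_bot] at h1
      have h2 : x = 1 := Subtype.ext h1
      rw [h2, orderOf_one] at hx
      exact hp.one_lt.ne hx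
  refine ⟨p, hp, ⟨⟨fun a b => Subtype.ext (hcomm a a.2 b b.2)⟩⟩, fun x hx => ?_⟩
  rw [← hU] at hx
  exact hx.2

theorem solvable_of_char_pgroup [hN : N.Normal] 
    (hirr : ∀ U : Subgroup G, U ≤ N → (∀ h ∈ H, ∀ u ∈ U, h * u * h⁻¹ ∈ U) → U = ⊥ ∨ U = N)
    (p : ℕ) (hp : p.Prime) (U : Subgroup G) (hU : U ≤ N) (hU1 : U ≠ ⊥)
    (hUp : IsPGroup p U) (hinv : ∀ h ∈ H, ∀ u ∈ U, h * u * h⁻¹ ∈ U) : Group.IsSolvable N := by
  have : Fact p.Prime := ⟨hp⟩
  obtain h | h := hirr U hU hinv
  · exact absurd h hU1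
  · rw [← h]
    have := hUp.isNilpotent
    infer_instance

/-- An `H`-invariant Sylow subgroup exists if a non-trivial normal `r`-subgroup `K` of `H` acts without
fixed points. -/
theorem solvable_of_normal_pgroup [hN : N.Normal] (hN1 : N ≠ ⊥)
    (hirr : ∀ U : Subgroup G, U ≤ N → (∀ h ∈ H, ∀ u ∈ U, h * u * h⁻¹ ∈ U) → U = ⊥ ∨ U = N)
    (hfaith : ∀ h ∈ H, (∀ x ∈ N, h * x = x * h) → h = 1)
    (r : ℕ) (hr : r.Prime) (K : Subgroup G) (hKH : K ≤ H) (hK1 : K ≠ ⊥) (hKr : IsPGroup r K)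
    (hKn : ∀ h ∈ H, ∀ k ∈ K, h * k * h⁻¹ ∈ K) : Group.IsSolvable N := by
  classical
  have : Fact r.Prime := ⟨hr⟩
  -- fixed points of K
  have hC : N ⊓ Subgroup.centralizer (K : Set G) = ⊥ := by
    refine (hirr _ inf_le_left ?_).resolve_right fun h => hK1 ?_
    · intro h hh u hu0
      rw [Subgroup.mem_inf, Subgroup.mem_centralizer_iff] at hu0 ⊢
      obtain ⟨hu, hu'⟩ := hu0
      refine ⟨hN.conj_mem u hu h, ?_⟩
      intro k hk
      have h1 := hKn h⁻¹ (H.inv_mem hh) k hk
      have h2 := hu' _ h1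
      rw [inv_inv] at h2
      calc k * (h * u * h⁻¹) = h * (h⁻¹ * k * h * u) * h⁻¹ := by group
        _ = h * (u * (h⁻¹ * k * h)) * h⁻¹ := by rw [h2]
        _ = h * u * h⁻¹ * k := by group
    · rw [Subgroup.eq_bot_iff_forall]
      intro k hk
      refine hfaith k (hKH hk) fun x hx => ?_
      rw [← h] at hx
      exact Subgroup.mem_centralizer_iff.1 hx.2 k hk
  have hKN : K ≤ Subgroup.normalizer (N : Set G) := by
    rw [Subgroup.normalizer_eq_top]; exact le_top
  -- coprimality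
  have hcop : (Nat.card K).Coprime (Nat.card N) := by
    obtain ⟨n, hn⟩ := IsPGroup.iff_card.1 hKr
    rw [hn]
    refine Nat.Coprime.pow_left _ ((Nat.Prime.coprime_iff_not_dvd hr).2 fun hdvd => ?_)
    let _ : MulAction K (N : Set G) := conjActOn K (N : Set G) fun k _ s hs => hN.conj_mem s hs k
    have h1 := hKr.card_modEq_card_fixedPoints (α := (N : Set G))
    have h2 : Nat.card (MulAction.fixedPoints K (N : Set G)) = 1 := by
      rw [Nat.card_eq_one_iff_unique]
      constructor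
      · constructor
        have h3 : ∀ x : MulAction.fixedPoints K (N : Set G), (x.1 : G) = 1 := by
          intro x
          have h4 : (x.1 : G) ∈ N ⊓ Subgroup.centralizer (K : Set G) := by
            rw [Subgroup.mem_inf, Subgroup.mem_centralizer_iff]
            refine ⟨x.1.2, ?_⟩
            intro k hk
            have h5 : k * (x.1 : G) * k⁻¹ = x.1 := congrArg Subtype.val (x.2 ⟨k, hk⟩)
            rw [← mul_inv_eq_iff_eq_mul, h5]
          rw [hC] at h4
          exact Subgroup.mem_bot.1 h4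
        intro a b
        exact Subtype.ext (Subtype.ext ((h3 a).trans (h3 b).symm))
      · refine ⟨⟨⟨1, N.one_mem⟩, fun k => Subtype.ext ?_⟩⟩
        change (k : G) * 1 * (k : G)⁻¹ = 1
        group
    rw [h2] at h1
    have h3 : Nat.card (N : Set G) ≡ 0 [MOD r] := (Nat.modEq_zero_iff_dvd).2 hdvd
    have h4 := h3.symm.trans h1
    rw [Nat.ModEq, Nat.zero_mod, Nat.mod_eq_of_lt hr.one_lt] at h4
    exact zero_ne_one h4
  have hKsol : Group.IsSolvable K := by
    have := hKr.isNilpotent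
    infer_instance
  obtain ⟨p, hp, hpd⟩ := Nat.exists_prime_and_dvd (n := Nat.card N) fun h =>
    hN1 (Subgroup.card_eq_one.mp h)
  have : Fact p.Prime := ⟨hp⟩
  obtain ⟨P, hP⟩ := Cfsg.Agent.S0023.result K N hKN hcop (Or.inl hKsol) p
  have hPp : IsPGroup p ((P : Subgroup N).map N.subtype) := P.isPGroup'.map _
  refine solvable_of_char_pgroup N H hirr p hp ((P : Subgroup N).map N.subtype)
    (Subgroup.map_subtype_le _) ?_ hPp ?_
  · intro h
    have h1 := (Subgroup.map_eq_bot_iff_of_injective _ N.subtype_injective).1 h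
    exact P.ne_bot_of_dvd_card hpd h1
  · intro h hh
    -- the conjugate Sylow subgroup
    let Q : Sylow p N := (MulAut.conjNormal h : MulAut N) • P
    have hQ : ∀ x : G, x ∈ ((Q : Subgroup N).map N.subtype) ↔
        h⁻¹ * x * h ∈ ((P : Subgroup N).map N.subtype) := by
      intro x
      constructor
      · rintro ⟨y, hy, rfl⟩
        obtain ⟨z, hz, rfl⟩ := hy
        refine ⟨z, hz, ?_⟩
        simp [MulAut.conjNormal_apply, mul_assoc]
      · rintro ⟨z, hz, hz'⟩
        refine ⟨(MulAut.conjNormal h : MulAut N) z, ⟨z, hz, rfl⟩, ?_⟩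
        have hz'' : (z : G) = h⁻¹ * x * h := hz'
        simp [MulAut.conjNormal_apply, hz'', mul_assoc]
    have hQn : K ≤ Subgroup.normalizer ((Q : Subgroup N).map N.subtype : Set G) := by
      intro k hk
      rw [Subgroup.mem_normalizer_iff]
      intro x
      rw [hQ, hQ]
      have h1 := hP (hKn h⁻¹ (H.inv_mem hh) k hk)
      rw [Subgroup.mem_normalizer_iff] at h1
      rw [h1]
      have e : h⁻¹ * k * h⁻¹⁻¹ * (h⁻¹ * x * h) * (h⁻¹ * k * h⁻¹⁻¹)⁻¹ = h⁻¹ * (k * x * k⁻¹) * h := by group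
      rw [e]
    obtain ⟨c, hc, hc'⟩ := Cfsg.Agent.S0024.result K N hKN hcop (Or.inl hKsol) p P Q hP hQn
    have hc1 : (c : G) ∈ N ⊓ Subgroup.centralizer (K : Set G) := ⟨c.2, hc⟩
    rw [hC, Subgroup.mem_bot] at hc1
    have hc2 : c = 1 := Subtype.ext hc1
    rw [hc2, map_one, one_smul] at hc'
    intro u hu
    have h1 := (hQ (h * u * h⁻¹)).2 (by
      have e : h⁻¹ * (h * u * h⁻¹) * h = u := by group
      rw [e]; exact hu)
    rwa [← hc'] at h1

/-- The involution case. -/
theorem solvable_of_involution [hN : N.Normal]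
    (hirr : ∀ U : Subgroup G, U ≤ N → (∀ h ∈ H, ∀ u ∈ U, h * u * h⁻¹ ∈ U) → U = ⊥ ∨ U = N)
    (hfaith : ∀ h ∈ H, (∀ x ∈ N, h * x = x * h) → h = 1)
    (hd : ∀ x ∈ N, x ≠ 1 → Nat.card ↥(H ⊓ Subgroup.centralizer {x}) = d)
    (m : ℕ) (hm : Nat.card H = m * d) (hmodd : Odd m)
    (t : G) (ht : t ∈ H) (ht1 : t ≠ 1) (ht2 : t * t = 1) : Group.IsSolvable N := by
  classical
  have htinv : t⁻¹ = t := inv_eq_of_mul_eq_one_left ht2
  -- elements inverted by `t` have order two
  have key : ∀ g ∈ N, t * g * t⁻¹ = g⁻¹ → g * g = 1 := by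
    intro g hg hinv
    by_contra hgg
    have hg1 : g ≠ 1 := by rintro rfl; exact hgg (one_mul 1)
    have hne : g ≠ g⁻¹ := fun h => hgg (by nth_rewrite 2 [h]; exact mul_inv_cancel g)
    let K : Subgroup G :=
      { carrier := {k | k ∈ H ∧ (k * g * k⁻¹ = g ∨ k * g * k⁻¹ = g⁻¹)}
        one_mem' := ⟨H.one_mem, Or.inl (by group)⟩
        mul_mem' := by
          rintro a b ⟨ha, ha'⟩ ⟨hb, hb'⟩
          refine ⟨H.mul_mem ha hb, ?_⟩
          have e : a * b * g * (a * b)⁻¹ = a * (b * g * b⁻¹) * a⁻¹ := by group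
          have e2 : a * g⁻¹ * a⁻¹ = (a * g * a⁻¹)⁻¹ := by group
          rw [e]
          rcases ha' with ha' | ha' <;> rcases hb' with hb' | hb' <;> rw [hb'] <;>
            simp [e2, ha']
        inv_mem' := by
          rintro a ⟨ha, ha'⟩
          refine ⟨H.inv_mem ha, ?_⟩
          rcases ha' with ha' | ha'
          · left
            nth_rewrite 1 [← ha']
            group
          · right
            have : a⁻¹ * g * a⁻¹⁻¹ = (a⁻¹ * g⁻¹ * a)⁻¹ := by group
            rw [this]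
            nth_rewrite 1 [← ha']
            group }
    have hKH : K ≤ H := fun k hk => hk.1
    have hSinv : ∀ k ∈ K, ∀ s ∈ ({g, g⁻¹} : Set G), k * s * k⁻¹ ∈ ({g, g⁻¹} : Set G) := by
      rintro k ⟨_, hk⟩ s hs
      have e2 : k * g⁻¹ * k⁻¹ = (k * g * k⁻¹)⁻¹ := by group
      rcases hs with rfl | hs
      · exact hk
      · rw [Set.mem_singleton_iff] at hs
        rw [hs, e2]
        rcases hk with hk | hk <;> rw [hk] <;> simp
    let _ := conjActOn K _ hSinv
    let g₀ : ({g, g⁻¹} : Set G) := ⟨g, Or.inl rfl⟩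
    have htK : t ∈ K := ⟨ht, Or.inr hinv⟩
    have horb : MulAction.orbit K g₀ = Set.univ := by
      rw [Set.eq_univ_iff_forall]
      rintro ⟨s, hs⟩
      rcases hs with hs | hs
      · exact ⟨1, Subtype.ext (by change (1 : G) * g * (1 : G)⁻¹ = s; rw [hs]; group)⟩
      · refine ⟨⟨t, htK⟩, Subtype.ext ?_⟩
        change t * g * t⁻¹ = s
        rw [hinv]
        exact (Set.mem_singleton_iff.1 hs).symm
    have h1 := Nat.card_congr (MulAction.orbitProdStabilizerEquivGroup K g₀)
    rw [Nat.card_prod, horb, Nat.card_congr (Equiv.Set.univ _), Nat.card_coe_set_eq,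
      Set.ncard_pair hne] at h1
    have h2 : Nat.card (MulAction.stabilizer K g₀) = d := by
      rw [← hd g hg hg1]
      refine Nat.card_congr ⟨fun k => ⟨k.1, hKH k.1.2, ?_⟩, fun k => ⟨⟨k.1, k.2.1, ?_⟩, ?_⟩,
        fun _ => rfl, fun _ => rfl⟩
      · have h3 : ((k.1 : G) * g * (k.1 : G)⁻¹) = g :=
          congrArg Subtype.val (MulAction.mem_stabilizer_iff.1 k.2)
        change (k.1 : G) ∈ Subgroup.centralizer {g}
        rw [Subgroup.mem_centralizer_iff]
        intro y hy
        rw [Set.mem_singleton_iff.1 hy]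
        exact (mul_inv_eq_iff_eq_mul.1 h3).symm
      · have h3 := Subgroup.mem_centralizer_iff.1 k.2.2 g rfl
        left
        rw [← h3]; group
      · rw [MulAction.mem_stabilizer_iff]
        apply Subtype.ext
        have h3 := Subgroup.mem_centralizer_iff.1 k.2.2 g rfl
        change (k.1 : G) * g * (k.1 : G)⁻¹ = g
        rw [← h3]; group
    rw [h2] at h1
    have h3 : Nat.card K ∣ Nat.card H := Subgroup.card_dvd_of_le hKH
    rw [← h1, hm] at h3
    have hd0 : 0 < d := by rw [← h2]; exact Nat.card_pos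
    have h4 : 2 ∣ m := Nat.dvd_of_mul_dvd_mul_right hd0 h3
    exact (Nat.not_even_iff_odd.2 hmodd) (even_iff_two_dvd.2 h4)
  -- conjugates of `t` commute
  let c : G → G := fun y => y⁻¹ * t * y
  have hcc : ∀ y ∈ N, ∀ z ∈ N, c y * c z = c z * c y := by
    have h1 : ∀ y ∈ N, c y * t = t * c y := by
      intro y hy
      have hgN : y⁻¹ * (t * y * t⁻¹) ∈ N := N.mul_mem (N.inv_mem hy) (hN.conj_mem y hy t)
      have h2 := key _ hgN (by
        rw [htinv]
        calc t * (y⁻¹ * (t * y * t)) * t = t * y⁻¹ * t * y * (t * t) := by group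
          _ = t * y⁻¹ * t * y := by rw [ht2, mul_one]
          _ = (y⁻¹ * (t⁻¹ * y * t⁻¹))⁻¹ := by group
          _ = (y⁻¹ * (t * y * t))⁻¹ := by rw [htinv])
      rw [htinv] at h2
      change y⁻¹ * t * y * t = t * (y⁻¹ * t * y)
      have h3 : (y⁻¹ * t * y * t) * (y⁻¹ * t * y * t) = 1 := by
        rw [← h2]; group
      calc y⁻¹ * t * y * t = (y⁻¹ * t * y * t)⁻¹ := eq_inv_of_mul_eq_one_left h3
        _ = t⁻¹ * (y⁻¹ * t⁻¹ * y) := by group
        _ = t * (y⁻¹ * t * y) := by rw [htinv]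
    intro y hy z hz
    have h2 := h1 (y * z⁻¹) (N.mul_mem hy (N.inv_mem hz))
    have h3 : c (y * z⁻¹) = z * c y * z⁻¹ := by simp [c]; group
    rw [h3] at h2
    calc c y * c z = z⁻¹ * (z * c y * z⁻¹ * t) * z := by simp [c]; group
      _ = z⁻¹ * (t * (z * c y * z⁻¹)) * z := by rw [h2]
      _ = c z * c y := by simp [c]; group
  have hc1 : c 1 = t := by simp [c]
  have hcsq : ∀ y, c y * c y = 1 := by
    intro y
    calc c y * c y = y⁻¹ * (t * t) * y := by simp [c]; group
      _ = 1 := by rw [ht2]; group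
  have hct : ∀ y ∈ N, c y * t = t * c y := fun y hy => by
    have := hcc y hy 1 N.one_mem
    rwa [hc1] at this
  -- the abelian subgroup
  let A : Subgroup N := Subgroup.closure {g : N | ∃ y ∈ N, (g : G) = c y * t}
  have hAcomm : ∀ a ∈ A, ∀ b ∈ A, a * b = b * a := by
    intro a ha b hb
    have : IsMulCommutative A := by
      refine Subgroup.isMulCommutative_closure ?_
      rintro x ⟨y, hy, hx⟩ x' ⟨y', hy', hx'⟩
      apply Subtype.ext
      change (x : G) * x' = x' * x
      rw [hx, hx']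
      have e1 := hcc y hy y' hy'
      have e2 := hct y hy
      have e3 := hct y' hy'
      calc c y * t * (c y' * t) = c y * (t * c y') * t := by group
        _ = c y * c y' * t * t := by rw [← e3]; group
        _ = c y' * c y * t * t := by rw [e1]
        _ = c y' * (c y * t) * t := by group
        _ = c y' * t * (c y * t) := by rw [e2]; simp only [mul_assoc]; rw [e2]
    exact congrArg Subtype.val (this.is_comm.comm ⟨a, ha⟩ ⟨b, hb⟩)
  have hAsq : ∀ a ∈ A, a * a = 1 := by
    intro a ha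
    refine Subgroup.closure_induction (p := fun a _ => a * a = 1) ?_ (one_mul 1) ?_ ?_ ha
    · rintro x ⟨y, hy, hx⟩
      apply Subtype.ext
      change (x : G) * x = 1
      rw [hx]
      calc c y * t * (c y * t) = c y * (t * c y) * t := by group
        _ = (c y * c y) * (t * t) := by rw [← hct y hy]; group
        _ = 1 := by rw [hcsq, ht2, one_mul]
    · intro x y hx hy hx2 hy2
      have h1 := hAcomm x hx y hy
      calc x * y * (x * y) = x * (y * x) * y := by group
        _ = (x * x) * (y * y) := by rw [← h1]; group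
        _ = 1 := by rw [hx2, hy2, one_mul]
    · intro x _ hx2
      calc x⁻¹ * x⁻¹ = (x * x)⁻¹ := by group
        _ = 1 := by rw [hx2, inv_one]
  have hAn : A.Normal := by
    refine ⟨fun a ha z => ?_⟩
    refine Subgroup.closure_induction (p := fun a _ => z * a * z⁻¹ ∈ A) ?_ ?_ ?_ ?_ ha
    · rintro x ⟨y, hy, hx⟩
      have hmem : ∀ y (hy : y ∈ N), (⟨c y * t, by
          have e : c y * t = y⁻¹ * (t * y * t⁻¹) := by simp [c, htinv, mul_assoc]
          rw [e]
          exact N.mul_mem (N.inv_mem hy) (hN.conj_mem y hy t)⟩ : N) ∈ A := fun y hy =>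
        Subgroup.subset_closure ⟨y, hy, rfl⟩
      have h1 := A.mul_mem (hmem (y * (z : G)⁻¹) (N.mul_mem hy (N.inv_mem z.2)))
        (A.inv_mem (hmem (z : G)⁻¹ (N.inv_mem z.2)))
      convert h1 using 1
      apply Subtype.ext
      change (z : G) * x * (z : G)⁻¹ = c (y * (z : G)⁻¹) * t * (c ((z : G)⁻¹) * t)⁻¹
      rw [hx]
      have htt : ∀ w : G, t * (t * w) = w := fun w => by rw [← mul_assoc, ht2, one_mul]
      simp [c, htinv, mul_assoc, htt]
    · have e : z * 1 * z⁻¹ = 1 := by group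
      rw [e]; exact A.one_mem
    · intro x y _ _ hx hy
      have e : z * (x * y) * z⁻¹ = (z * x * z⁻¹) * (z * y * z⁻¹) := by group
      rw [e]; exact A.mul_mem hx hy
    · intro x _ hx
      have e : z * x⁻¹ * z⁻¹ = (z * x * z⁻¹)⁻¹ := by group
      rw [e]; exact A.inv_mem hx
  have hAp : IsPGroup 2 A := by
    intro a
    refine ⟨1, Subtype.ext ?_⟩
    have := hAsq a a.2
    rw [pow_one, pow_two]
    exact this
  have hA1 : A ≠ ⊥ := by
    intro hbot
    refine ht1 (hfaith t ht fun x hx => ?_)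
    have hmem : (⟨c x * t, by
          have e : c x * t = x⁻¹ * (t * x * t⁻¹) := by simp [c, htinv, mul_assoc]
          rw [e]
          exact N.mul_mem (N.inv_mem hx) (hN.conj_mem x hx t)⟩ : N) ∈ A :=
        Subgroup.subset_closure ⟨x, hx, rfl⟩
    rw [hbot, Subgroup.mem_bot] at hmem
    have h1 : c x * t = 1 := congrArg Subtype.val hmem
    have h2 : x⁻¹ * t * x = t := by
      have := eq_inv_of_mul_eq_one_left h1
      rwa [htinv] at this
    calc t * x = x * (x⁻¹ * t * x) := by group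
      _ = x * t := by rw [h2]
  have hle := Cfsg.Agent.Lib.Cores.le_pCore (p := 2) hAn hAp
  refine solvable_of_char_pgroup N H hirr 2 Nat.prime_two ((Cfsg.pCore 2 N).map N.subtype)
    (Subgroup.map_subtype_le _) ?_ ((Cfsg.Agent.Lib.Cores.pCore_isPGroup 2).map _)
    fun h _ u hu => conj_inv_of_characteristic N _ (Cfsg.Agent.Lib.Cores.pCore_characteristic 2) h u hu
  intro h
  have h1 := (Subgroup.map_eq_bot_iff_of_injective _ N.subtype_injective).1 h
  rw [h1] at hle
  exact hA1 (le_bot_iff.1 hle)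

/-- **Half-transitive automorphism groups** (Isaacs-Passman): if all non-trivial elements of the normal subgroup `N`
have centralizers of the same order `d ≠ 1` in the group `H` acting faithfully on `N`, then `H` acts irreducibly on `N`
and `N` is elementary abelian. -/
theorem main [hN : N.Normal] (hN1 : N ≠ ⊥)
    (hfaith : ∀ h ∈ H, (∀ x ∈ N, h * x = x * h) → h = 1)
    (hd : ∀ x ∈ N, x ≠ 1 → Nat.card ↥(H ⊓ Subgroup.centralizer {x}) = d) (hd1 : d ≠ 1) :
    (∀ U : Subgroup G, U ≤ N → (∀ h ∈ H, ∀ u ∈ U, h * u * h⁻¹ ∈ U) → U = ⊥ ∨ U = N) ∧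
    ∃ p : ℕ, p.Prime ∧ IsMulCommutative N ∧ ∀ x ∈ N, x ^ p = 1 := by
  classical
  have hirr := irreducible N H d hfaith hd hd1
  refine ⟨hirr, elementary_of_solvable N H hN1 ?_ hirr⟩
  obtain ⟨x, hx, hx1⟩ : ∃ x ∈ N, x ≠ 1 := by
    by_contra hno
    push Not at hno
    exact hN1 ((Subgroup.eq_bot_iff_forall _).2 hno)
  obtain ⟨m, hm⟩ : d ∣ Nat.card H := by
    rw [← hd x hx hx1]
    exact Subgroup.card_dvd_of_le inf_le_left
  rw [mul_comm] at hm
  have hd0 : 0 < d := by rw [← hd x hx hx1]; exact Nat.card_pos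
  -- `m` divides `|N| - 1`
  have hmN : m ∣ Nat.card N - 1 := by
    have h2 : Nat.card H ∣ Nat.card ({u | u ∈ N ∧ u ≠ 1} : Set G) * d := by
      refine dvd_of_centralizer H _ ?_ d ?_
      · rintro k hk s ⟨hs, hs1⟩
        refine ⟨hN.conj_mem s hs k, fun h => hs1 ?_⟩
        have : k * s * k⁻¹ = k * 1 * k⁻¹ := by rw [h]; group
        simpa using this
      · rintro s ⟨hs, hs1⟩
        exact hd s hs hs1
    have hcardU : Nat.card ({u | u ∈ N ∧ u ≠ 1} : Set G) + 1 = Nat.card N := by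
      have e : ({u | u ∈ N ∧ u ≠ 1} : Set G) = (N : Set G) \ {1} := by
        ext u; simp
      rw [e, Nat.card_coe_set_eq, Set.ncard_sdiff_singleton_add_one N.one_mem (Set.toFinite _),
        ← Nat.card_coe_set_eq]
      rfl
    rw [hm] at h2
    rw [← hcardU, Nat.add_sub_cancel]
    exact Nat.dvd_of_mul_dvd_mul_right hd0 h2
  rcases Nat.even_or_odd (Nat.card N) with heven | hodd
  · -- `m` is odd
    have hmodd : Odd m := by
      have h1 : Odd (Nat.card N - 1) := Nat.Even.sub_odd Nat.card_pos heven odd_one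
      obtain ⟨e, he⟩ := hmN
      rw [he] at h1
      exact (Nat.odd_mul.1 h1).1
    rcases Nat.even_or_odd (Nat.card H) with hHe | hHo
    · have : Fact (Nat.Prime 2) := ⟨Nat.prime_two⟩
      obtain ⟨t, ht⟩ := exists_prime_orderOf_dvd_card' (G := H) 2 (even_iff_two_dvd.1 hHe)
      have ht2 : t * t = 1 := by rw [← pow_two, ← ht]; exact pow_orderOf_eq_one t
      have ht1 : t ≠ 1 := by rintro rfl; rw [orderOf_one] at ht; exact absurd ht (by norm_num)
      exact solvable_of_involution N H d hirr hfaith hd m hm hmodd t t.2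
        (fun h => ht1 (Subtype.ext h)) (by exact_mod_cast congrArg Subtype.val ht2)
    · have hHs : Group.IsSolvable H := Cfsg.Agent.S0205.result hHo
      have hH1 : H ≠ ⊥ := by
        rintro rfl
        have := hd x hx hx1
        rw [bot_inf_eq, Subgroup.card_bot] at this
        exact hd1 this.symm
      have : Nontrivial H := (Subgroup.nontrivial_iff_ne_bot H).2 hH1
      obtain ⟨r, hr, K, hKc, _, hKr, hK1⟩ :=
        Cfsg.Agent.Lib.SolvableMinNormal.exists_characteristic_pgroup (G := H)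
      refine solvable_of_normal_pgroup N H hN1 hirr hfaith r hr (K.map H.subtype)
        (Subgroup.map_subtype_le _) ?_ (hKr.map _) ?_
      · intro h
        exact hK1 ((Subgroup.map_eq_bot_iff_of_injective _ H.subtype_injective).1 h)
      · rintro h hh _ ⟨k, hk, rfl⟩
        have hKn : K.Normal := inferInstance
        exact ⟨_, hKn.conj_mem k hk ⟨h, hh⟩, rfl⟩
  · exact Cfsg.Agent.S0205.result hodd

end Main

end Cfsg.Agent.H347.HalfTrans
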